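import Cfsg.Agent.PG.BG12.T18
import Cfsg.Agent.PG.BG12.T12
import Cfsg.Agent.PG.BG12.T14

/-!
Bender-Glauberman, 13.1 - 13.7: prime action on `M_σ`.
-/

set_option autoImplicit false
set_option linter.unusedSectionVars false

open Pointwise Cfsg Cfsg.Lib.Solv

namespace Cfsg.Lib.FT.PG

variable {G : Type*} [Group G] [Dl G] [Finite G]

theorem tau1_prime {M : Subgroup G} {p : ℕ} (h : p ∈ tau1 M) : p.Prime := h.1
theorem tau2_prime {M : Subgroup G} {p : ℕ} (h : p ∈ tau2 M) : p.Prime := h.1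
theorem tau3_prime {M : Subgroup G} {p : ℕ} (h : p ∈ tau3 M) : p.Prime := h.1

theorem bg13_sub_Malpha (hG : Ctx G) {M X : Subgroup G} (hM : Mx M)
    (hXM : X ≤ M) (hX : IsPiSubgroup (alpha M) X) : X ≤ alphaCore M :=
  (sub_normal_Hall (Malpha_Hall hG hM) (Malpha_normal M).norm hXM).2 hX

/-- B & G, Lemma 13.1. -/
theorem Msigma_setI_mmax_central (hG : Ctx G) {M E H : Subgroup G}
    (hM : Mx M) (hE : IsPiHallOf (sigma M)ᶜ E M) {p : ℕ} (hp : p.Prime) (hH : Mx H)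
    (hpE : p ∣ Nat.card E) (hpH : p ∣ Nat.card H) (hp1 : p ∉ tau1 H)
    (hne : ⁅sigmaCore M ⊓ H, M ⊓ H⁆ ≠ ⊥) (hHM : ¬ ConjIn ⊤ M H) :
    (∀ P : Subgroup G, P ≤ M ⊓ H → IsPiSubgroup {p} P → P ≤ 𝐂 (sigmaCore M ⊓ H)) ∧
      p ∉ tau2 H ∧ (p ∈ tau1 M → IsIdealPrime p G) := by
  have := Fact.mk hp
  have hnMs : M ⊓ H ≤ 𝐍 (sigmaCore M ⊓ H) :=
    normsI (inf_le_left.trans (Msigma_normal M).norm) (normsG inf_le_right)
  obtain ⟨q, hq, hqR⟩ := exists_prime_dvd_card hne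
  have := Fact.mk hq
  have hqσ : q ∈ sigma M :=
    pgroupS ((commg_subl.2 hnMs).trans inf_le_left) (Msigma_pgroup M) q hq hqR
  obtain ⟨Y, hY⟩ := Sylow_exists q ⁅H, H⁆
  have hY1 : Y ≠ ⊥ := Sylow_ne_bot hY (hqR.trans (cardSg (commgSS inf_le_right inf_le_right)))
  have hdef := Mbeta_mul_norm_Sylow_der1 hG hH hq hY
  have hkey := fun h => (sigma_Jsub hG hM (pi_singleton_pgroup (pHall_pgroup hY) hqσ) hY1).2 E p H
    hE ⟨hp, hpE⟩ h hH ((pHall_sub hY).trans (der_sub H)) hHM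
  have hnβ : H ⊓ 𝐍 Y ≤ 𝐍 (betaCore H) := inf_le_left.trans (Mbeta_normal H).norm
  have hβ : ¬ IsIdealPrime p G → IsPiSubgroup {p}ᶜ (betaCore H) := fun h =>
    pi_p'group (Mbeta_pgroup H) fun h' => h h'.2
  have hb : p ∉ tau2 H := by
    intro h2
    have h3 := (tau2_not_beta hG hH h2).1
    have h4 := (hkey h3).1
    rw [← p_rank_sup_p'group hnβ (hβ h3), hdef, (mem_tau2_iff.1 h2).2.2] at h4
    omega
  have hσ3 : p ∈ tau3 H ∨ p ∈ sigma H := by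
    rcases (partition_pi_mmax hG hH p).1 ⟨hp, hpH⟩ with h | h | h
    · exact absurd h hp1
    · exact absurd h hb
    · exact h
  have hpH' : p ∣ Nat.card ↥⁅H, H⁆ := by
    rcases hσ3 with h | h
    · exact (mem_tau3_iff.1 h).2.2.2
    · rw [← pi_Msigma hG hH] at h
      exact h.2.trans (cardSg (Msigma_der1 hG hH))
  refine ⟨fun P hP hPp => ?_, hb, fun h1 => ?_⟩
  · obtain ⟨S, hS, hPS⟩ := Sylow_superset (hP.trans inf_le_right) (pgroup_iff.1 hPp)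
    have hSH' : S ≤ ⁅H, H⁆ := by
      rcases hσ3 with h | h
      · rcases cyclic_Sylow_tiVsub_der1 hp hS
          (tau13_pgroup_cyclic hG (Or.inr h) (Sylow_pgroup hS) (pHall_sub hS)) with h1 | h1
        · exact absurd h1 (Sylow_ne_bot (setI_normal_Hall (der_normal H) hS) hpH')
        · exact h1
      · exact (sub_Msigma hG hH (pHall_sub hS) (pi_singleton_pgroup (pHall_pgroup hS) h)).trans
          (Msigma_der1 hG hH)
    have hn : H ≤ 𝐍 (alphaCore H ⊔ S) := X10.norm_sup_hall_of_nilMod (Malpha_normal H) (der_sub H)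
      (der_normal H).norm (Malpha_quo_nil hG hH) (pHall_subl hSH' (der_sub H) hS)
    have hσ' : IsPiSubgroup (sigma M)ᶜ (alphaCore H ⊔ S) := by
      refine pgroupY ((pHall_sub hS).trans (Malpha_normal H).norm) ?_
        (pi_singleton_pgroup (pHall_pgroup hS) (pHall_pgroup hE p hp hpE))
      exact sub_pgroup (Set.subset_compl_iff_disjoint_right.2
        (sigma_disjoint hG hH hM fun h => hHM h.symm).2.1) (Malpha_pgroup H)
    rw [centsC, ← commG1P, eq_bot_iff, ← pgroup_TI (Msigma_pgroup M) hσ']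
    exact le_inf (((commgSS le_rfl hP).trans (commg_subl.2 hnMs)).trans inf_le_left)
      ((commgSS inf_le_right (hPS.trans le_sup_right)).trans (commg_subr.2 hn))
  · by_contra h3
    refine (hkey h3).2 h1 (bg13_dvd_of_dvd_sup hp ((der_sub _).trans hnβ) (hβ h3)
      (hpH'.trans (cardSg ?_)))
    have h4 := der_sup_le hnβ
    rwa [hdef] at h4

/-- B & G, Corollary 13.2. -/
theorem cent_norm_tau13_mmax (hG : Ctx G) {M E P H : Subgroup G}
    (hM : Mx M) (hE : IsPiHallOf (sigma M)ᶜ E M) {p : ℕ} (hp : p ∈ tau1 M ∨ p ∈ tau3 M)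
    (hP1 : P ≠ ⊥) (hPM : P ≤ M) (hP : IsPiSubgroup {p} P) (hH : Mx H) (hN : 𝐍 P ≤ H)
    (hd : p ∈ dl G := by dlt) :
    (∀ P₁ : Subgroup G, P₁ ≤ M ⊓ H → IsPiSubgroup {p} P₁ → P₁ ≤ 𝐂 (sigmaCore M ⊓ H)) ∧
      (∀ X : Subgroup G, X ≤ E ⊓ H → IsPiSubgroup (tau1 H)ᶜ X → X ≤ 𝐂 (sigmaCore M ⊓ H)) ∧
      (⁅sigmaCore M ⊓ H, M ⊓ H⁆ ≠ ⊥ → p ∈ sigma H ∧ (p ∈ tau1 M → p ∈ beta H)) := by
  have hpr : p.Prime := hp.elim tau1_prime tau3_prime
  have := Fact.mk hpr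
  have hEM := pHall_sub hE
  by_cases hne : ⁅sigmaCore M ⊓ H, M ⊓ H⁆ = ⊥
  · have h1 := centsC.1 (commG1P.1 hne)
    exact ⟨fun P₁ h _ => h.trans h1, fun X h _ => (h.trans (inf_le_inf_right _ hEM)).trans h1,
      fun h => absurd hne h⟩
  have hPp := pgroup_iff.1 hP
  have hnJ := mmax_norm_notJ hG hM hH hPp hPM hN (Or.inr hp)
  have hσ2 := prime_class_mmax_norm hG hH hpr hPp hN
  have hpE : p ∣ Nat.card E :=
    ((partition_pi_sigma_compl hG hM hE p).2 (hp.elim Or.inl fun h => Or.inr (Or.inr h))).2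
  have h1 := Msigma_setI_mmax_central hG hM hE hpr hH hpE
    ((pgroup_dvd_card hPp hP1).trans (cardSg ((normG P).trans hN)))
    (fun h => hσ2.elim (tau1_sub_sigma' H h) (tau2'1 H h)) hne hnJ
  refine ⟨h1.1, fun X hX hXπ => ?_, fun _ => ?_⟩
  · refine le_of_forall_Sylow_le fun r hr hd => ?_
    obtain ⟨R, hR⟩ := Sylow_exists r X
    exact ⟨R, hR, (Msigma_setI_mmax_central hG hM hE hr.out hH
      (hd.trans (cardSg (hX.trans inf_le_left))) (hd.trans (cardSg (hX.trans inf_le_right)))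
      (hXπ r hr.out hd) hne hnJ).1 R
      (((pHall_sub hR).trans hX).trans (inf_le_inf_right _ hEM)) (pHall_pgroup hR)⟩
  · have h2 : p ∈ sigma H := hσ2.resolve_right h1.2.1
    refine ⟨h2, fun h => ?_⟩
    rw [← predI_sigma_beta hG hH]
    exact ⟨h2, h1.2.2 h⟩

/-- B & G, Corollary 13.3(a). -/
theorem cyclic_primact_Msigma (hG : Ctx G) {M E P : Subgroup G}
    (hM : Mx M) (hE : IsPiHallOf (sigma M)ᶜ E M) {p : ℕ} (hp : p.Prime)
    (hP : IsSylowOf p P E) (hc : IsCyclic P) : Semiprime (sigmaCore M) P := by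
  have := Fact.mk hp
  intro x hx hx1
  have hXP : Subgroup.zpowers x ≤ P := Subgroup.zpowers_le.2 hx
  have hX1 : Subgroup.zpowers x ≠ ⊥ := Subgroup.zpowers_ne_bot.2 hx1
  have hPp := Sylow_pgroup hP
  by_cases h0 : sigmaCore M ⊓ 𝐂₁ x = ⊥
  · exact le_antisymm (h0.le.trans bot_le) (inf_le_inf_left _ (cent_le_cent1 hx))
  have hpd : p ∈ dl G := dg_zpowers (delt_of_inf_cent1 hG (Msigma_dg M) h0) p hp
    (pgroup_dvd_card (hPp.to_le hXP) hX1)
  have hPM : P ≤ M := (pHall_sub hP).trans (pHall_sub hE)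
  have hp13 : p ∈ tau1 M ∨ p ∈ tau3 M := by
    rcases (partition_pi_sigma_compl hG hM hE p).1
      ⟨hp, (pgroup_dvd_card hPp (subG1_contra hXP hX1)).trans (cardSg (pHall_sub hP))⟩ with h | h | h
    · exact Or.inl h
    · have h1 := cyclic_p_rank_le1 (p := p) hc
      rw [p_rank_Sylow hP, ((tau2E hG hM hE p).1 h).2] at h1
      omega
    · exact Or.inr h
  obtain ⟨H, hH, hN⟩ := mmax_exists (mFT_norm_pgroup_proper hG (hPp.to_le hXP) hX1)
  have h1 := (cent_norm_tau13_mmax hG hM hE hp13 hX1 (hXP.trans hPM)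
    (pgroupS hXP (pHall_pgroup hP)) hH hN).1 P
    (le_inf hPM ((sub_abelian_norm (cyclic_abelian hc) hXP).trans hN)) (pHall_pgroup hP)
  refine le_antisymm (le_inf inf_le_left ?_) (inf_le_inf_left _ (cent_le_cent1 hx))
  exact (inf_le_inf_left _ ((cent1_le_norm_zpowers x).trans hN)).trans (centsC.1 h1)

/-- B & G, Corollary 13.3(b). -/
theorem tau3_primact_Msigma (hG : Ctx G) {M E E₃ : Subgroup G}
    (hM : Mx M) (hE : IsPiHallOf (sigma M)ᶜ E M) (h3 : IsPiHallOf (tau3 M) E₃ E) :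
    Semiprime (sigmaCore M) E₃ := by
  obtain ⟨⟨E₁, h1⟩, -⟩ := ex_tau13_compl hG hM hE
  obtain ⟨E₂, hc⟩ := ex_tau2_compl hG hM hE h1 h3
  obtain ⟨⟨h3E', hn3⟩, -, ⟨-, hcyc⟩, -⟩ := sigma_compl_context hG hM hc
  intro x hx hx1
  obtain ⟨X, hXx, hX, hCX⟩ := bg13_prime_le_zpowers hx1
  have hX3 : X ≤ E₃ := hXx.trans (Subgroup.zpowers_le.2 hx)
  have := Fact.mk hX
  have hXp : IsPGroup (Nat.card X) X := isPGroup_of_card_prime rfl
  by_cases h0 : sigmaCore M ⊓ 𝐂₁ x = ⊥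
  · exact le_antisymm (h0.le.trans bot_le) (inf_le_inf_left _ (cent_le_cent1 hx))
  have hpd : Nat.card X ∈ dl G := dg_zpowers (delt_of_inf_cent1 hG (Msigma_dg M) h0) _ hX
    (cardSg hXx)
  obtain ⟨H, hH, hN⟩ := mmax_exists (mFT_norm_pgroup_proper hG hXp (prime_ne_bot hX))
  have hEH : E ≤ H := (norms_sub_cyclic hcyc hX3 hn3.norm).trans hN
  have h4 := (cent_norm_tau13_mmax hG hM hE (Or.inr (pHall_pgroup h3 _ hX (cardSg hX3)))
    (prime_ne_bot hX) ((hX3.trans hn3.le).trans (pHall_sub hE)) (pgroup_iff.2 hXp) hH hN).2.1 E₃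
    (le_inf hn3.le (hn3.le.trans hEH)) fun r hr hd h =>
      (mem_tau1_iff.1 h).2.2.2 (hd.trans (cardSg (h3E'.trans (dergS hEH))))
  refine le_antisymm (le_inf inf_le_left ?_) (inf_le_inf_left _ (cent_le_cent1 hx))
  exact (inf_le_inf_left _ ((hCX.trans (cent_sub X)).trans hN)).trans (centsC.1 h4)

/-- the main step in the proof of 13.4 -/
theorem bg13_4_step (hG : Ctx G) {M E P R S : Subgroup G}
    (hM : Mx M) (hE : IsPiHallOf (sigma M)ᶜ E M) {p r q : ℕ} (hp : p ∈ tau1 M) (hr : r.Prime)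
    (hP : P ∈ Elem p 1 E) (hR : R ∈ Elem r 1 (E ⊓ 𝐂 P)) (hq : q.Prime) (hS : IsPGroup q S)
    (hSP : S ≤ sigmaCore M ⊓ 𝐂 P) (hRS : R ≤ 𝐍 S) (hne : ¬ R ≤ 𝐂 S) :
    q ∉ alpha M ∧ r ∈ tau1 M ∧ alphaCore M ⊓ 𝐂 P ≤ 𝐂 ⁅S, R⁆ ∧ alphaCore M ⊓ 𝐂 R ≠ ⊥ ∧
      alphaCore M ⊓ 𝐂 (R ⊔ ⁅S, R⁆) = ⊥ := by
  have := Fact.mk (tau1_prime hp)
  have := Fact.mk hr
  have := Fact.mk hq
  have hEM := pHall_sub hE
  have hMsM := (Msigma_normal M).le
  have hP1 := nt_pnElem hP Nat.one_pos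
  have hPp := pnElem_pgroup hP
  have hRE : R ≤ E := (pnElem_sub hR).trans inf_le_left
  have hRP : R ≤ 𝐂 P := (pnElem_sub hR).trans inf_le_right
  have hpd : p ∈ dl G := dg_of_inf_cent hG (Msigma_dg M) (subG1_contra hSP fun e => hne
    (by rw [e, cent_bot]; exact le_top)) p hp.1 (X12.elem_dvd (X12.elem_self hP))
  obtain ⟨H, hH, hN⟩ := mmax_exists (mFT_norm_pgroup_proper hG hPp hP1)
  have hCH : 𝐂 P ≤ H := (cent_sub P).trans hN
  have hRH : R ≤ H := hRP.trans hCH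
  have hSMH : S ≤ sigmaCore M ⊓ H := hSP.trans (inf_le_inf_left _ hCH)
  have hSM : S ≤ M := (hSP.trans inf_le_left).trans hMsM
  have hQ1 : ⁅S, R⁆ ≠ ⊥ := fun h => hne (centsC.1 (commG1P.1 h))
  have hQS : ⁅S, R⁆ ≤ S := commg_subl.2 hRS
  obtain ⟨-, h2, h3⟩ := cent_norm_tau13_mmax hG hM hE (Or.inl hp) hP1 ((pnElem_sub hP).trans hEM)
    (pgroup_iff.2 hPp) hH hN
  have hpβ : p ∈ beta H :=
    (h3 (subG1_contra (commgSS hSMH (le_inf (hRE.trans hEM) hRH)) hQ1)).2 hp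
  have hr1 : r ∈ tau1 H := by
    by_contra h
    exact hne ((h2 R (le_inf hRE hRH) (pi_pgroup (pnElem_pgroup hR) h)).trans (centS hSMH))
  have hnJ := mmax_norm_notJ hG hM hH hPp ((pnElem_sub hP).trans hEM) hN (Or.inr (Or.inl hp))
  have hHM : H ≠ M := fun e => hnJ (e ▸ ConjIn.refl _ _)
  have hqσ : q ∈ sigma M := mem_of_pgroup_of_ne_bot hS (subG1_contra hQS hQ1)
    (pgroupS (hSP.trans inf_le_left) (Msigma_pgroup M))
  have hrσ : r ∉ sigma M := pnElem_mem_pi (pnElem_of_le hR hRE) Nat.one_pos (pHall_pgroup hE)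
  have hqr : q ≠ r := fun e => hrσ (e ▸ hqσ)
  have hSab : IsMulCommutative S := by
    by_contra h
    exact hHM (uniq_mmax_eq (nonabelian_Uniqueness hG hq hS h) hM hSM hH (hSMH.trans inf_le_right))
  have hreg : ⁅S, R⁆ ⊓ 𝐂 R = ⊥ :=
    coprime_abel_cent_TI hRS (pgroup_coprime_of_ne hS (pnElem_pgroup hR) hqr) hSab
  have hQp := hS.to_le hQS
  have hRQ : R ≤ 𝐍 ⁅S, R⁆ := commg_normr S R
  have hU : UniqMax (𝐍 ⁅S, R⁆) H := by
    by_contra h
    have hPα : P ≤ alphaCore H := bg13_sub_Malpha hG hH ((normG P).trans hN)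
      (pi_pgroup hPp (beta_sub_alpha H hpβ))
    have h4 := ((cent_Malpha_reg_tau1 hG hH hr1 hq hqr (pnElem_of_le hR hRH) hQ1 hRQ hreg h).1
      (subG1_contra hPα hP1) (fun h => Set.disjoint_left.1
        (sigma_disjoint hG hH hM fun h => hnJ h.symm).2.1 h hqσ) hQp
      ((hQS.trans hSMH).trans inf_le_right)).2
    refine hP1 (le_bot_iff.1 (h4 ▸ le_inf hPα (centsC.1 (sup_le hRP ?_))))
    exact (hQS.trans hSP).trans inf_le_right
  obtain ⟨-, -, h5, h6⟩ := sigma_subgroup_embedding hG hM hqσ (hQS.trans hSM) hQp hQ1 hH hU.le hHM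
  have hqH : q ∈ sigma H := by
    by_contra h
    exact pnElem_mem_pi (pnElem_of_le hP (le_inf ((pnElem_sub hP).trans hEM) ((normG P).trans hN)))
      Nat.one_pos (pHall_pgroup (h6 h).2.2) (beta_sub_sigma hG hH hpβ)
  obtain ⟨-, h7, -, h8⟩ := h5 hqH
  have hr1M : r ∈ tau1 M := (h7 hr1).resolve_right fun h => hrσ (alpha_sub_sigma hG hM h)
  obtain ⟨h9, h10, -⟩ := sigma_disjoint hG hM hH hnJ
  have hqα : q ∉ alpha M := fun h => Set.disjoint_left.1 h10 h hqH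
  have h11 := (cent_Malpha_reg_tau1 hG hM hr1M hq hqr (pnElem_of_le hR (hRE.trans hEM)) hQ1 hRQ
    hreg fun h => hHM (h.unique hU)).1 h8 hqα hQp (hQS.trans hSM)
  refine ⟨hqα, hr1M, ?_, h11⟩
  rw [← commG1P, eq_bot_iff, ← h9]
  refine le_inf ((commgSS inf_le_left (hQS.trans hSM)).trans (commg_subl.2 (Malpha_normal M).norm))
    ((commgSS (inf_le_right.trans hCH) (sub_Msigma hG hH ((hQS.trans hSMH).trans inf_le_right)
      (pi_pgroup hQp hqH))).trans (commg_subr.2 (Msigma_normal H).norm))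

/-- B & G, Theorem 13.4. -/
theorem cent_tau1Elem_Msigma (hG : Ctx G) {M E P R : Subgroup G}
    (hM : Mx M) (hE : IsPiHallOf (sigma M)ᶜ E M) {p r : ℕ} (hp : p ∈ tau1 M) (hr : r.Prime)
    (hP : P ∈ Elem p 1 E) (hR : R ∈ Elem r 1 (E ⊓ 𝐂 P)) :
    sigmaCore M ⊓ 𝐂 P ≤ sigmaCore M ⊓ 𝐂 R := by
  have hEM := pHall_sub hE
  have hco := coprime_sigma_compl hG hM hE
  have hRE : R ≤ E := (pnElem_sub hR).trans inf_le_left
  have hRP : R ≤ 𝐂 P := (pnElem_sub hR).trans inf_le_right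
  have hPE := pnElem_sub hP
  have hα := Malpha_sub_Msigma hG hM
  refine le_inf inf_le_left (bg13_cent_of_forall_Sylow
    (norms_subcent ((hRE.trans hEM).trans (Msigma_normal M).norm) (cents_norm hRP))
    (coprimeSg inf_le_left (coprimegS hRE hco))
    (sub_mmax_sol hG hM (inf_le_left.trans (Msigma_normal M).le)) fun q S hq _ hS hRS => ?_)
  have := Fact.mk hq
  by_contra hne
  obtain ⟨-, h1, h2, h3, h4⟩ :=
    bg13_4_step hG hM hE hp hr hP hR hq (Sylow_pgroup hS) (pHall_sub hS) hRS hne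
  have h5 : alphaCore M ⊓ 𝐂 R ≤ 𝐂 P := by
    refine bg13_cent_of_forall_Sylow
      (norms_subcent ((hPE.trans hEM).trans (Malpha_normal M).norm) (cents_norm (centsC.1 hRP)))
      (coprimeSg (inf_le_left.trans hα) (coprimegS hPE hco))
      (sub_mmax_sol hG hM (inf_le_left.trans (Malpha_normal M).le)) fun t T ht hd hT hPT => ?_
    have := Fact.mk ht
    by_contra hne'
    exact (bg13_4_step hG hM hE h1 (tau1_prime hp) (pnElem_of_le hR hRE)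
      (pnElem_of_le hP (le_inf hPE (centsC.1 hRP))) ht (Sylow_pgroup hT)
      ((pHall_sub hT).trans (inf_le_inf_right _ hα)) hPT hne').1
      (pgroupS inf_le_left (Malpha_pgroup M) t ht hd)
  refine h3 (le_bot_iff.1 (h4 ▸ le_inf inf_le_left ?_))
  rw [cent_sup]
  exact le_inf inf_le_right ((le_inf inf_le_left h5).trans h2)

/-- B & G, Theorem 13.5. -/
theorem tau1_primact_Msigma (hG : Ctx G) {M E E₁ : Subgroup G}
    (hM : Mx M) (hE : IsPiHallOf (sigma M)ᶜ E M) (h1 : IsPiHallOf (tau1 M) E₁ E) :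
    Semiprime (sigmaCore M) E₁ := by
  obtain ⟨-, E₃, h3⟩ := ex_tau13_compl hG hM hE
  obtain ⟨E₂, hc⟩ := ex_tau2_compl hG hM hE h1 h3
  obtain ⟨-, -, ⟨hcyc, -⟩, -⟩ := sigma_compl_context hG hM hc
  intro x hx hx1
  obtain ⟨P, hPx, hP, hCP⟩ := bg13_prime_le_zpowers hx1
  have hP1 : P ≤ E₁ := hPx.trans (Subgroup.zpowers_le.2 hx)
  have := Fact.mk hP
  refine le_antisymm (le_inf inf_le_left ?_) (inf_le_inf_left _ (cent_le_cent1 hx))
  refine (inf_le_inf_left _ hCP).trans (centsC.1 (le_of_forall_Sylow_le fun r hr hd => ?_))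
  obtain ⟨T, hT⟩ := Sylow_exists r E₁
  obtain ⟨R, hR⟩ := p1Elem_exists (pgroup_dvd_card (Sylow_pgroup hT) (Sylow_ne_bot hT hd))
  have hR1 : R ≤ E₁ := (pnElem_sub hR).trans (pHall_sub hT)
  have h4 := cent_tau1Elem_Msigma hG hM hE (pHall_pgroup h1 _ hP (cardSg hP1)) hr.out
    (p1ElemE.2 ⟨hP1.trans (pHall_sub h1), rfl⟩)
    (pnElem_of_le hR (le_inf (hR1.trans (pHall_sub h1))
      (centSS hP1 hR1 (abelian_le_cent (cyclic_abelian hcyc)))))
  rw [(cyclic_primact_Msigma hG hM hE hr.out (subHall_Sylow h1 (pHall_pgroup h1 r hr.out hd) hT)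
    (cyclicS (pHall_sub hT) hcyc)).cent (pnElem_sub hR) (nt_pnElem hR Nat.one_pos)] at h4
  exact ⟨T, hT, centsC.1 (h4.trans inf_le_right)⟩

theorem bg13_exists_tau2 {M E E₁ E₂ E₃ : Subgroup G} (hc : SigmaCompl M E E₁ E₂ E₃)
    (h : E₂ ≠ ⊥) : ∃ p, p ∈ tau2 M :=
  let ⟨p, hp, hd⟩ := exists_prime_dvd_card h
  ⟨p, pHall_pgroup hc.hall2 p hp hd⟩

/-- if `q ∉ β(M)` then `E'` centralizes a Sylow `q`-subgroup of `M_σ` -/
theorem bg13_der_cent_Sylow (hG : Ctx G) {M E : Subgroup G}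
    (hM : Mx M) (hE : IsPiHallOf (sigma M)ᶜ E M) {q : ℕ} (hq : q.Prime) (hβ : q ∉ beta M) :
    ∃ S : Subgroup G, IsSylowOf q S (sigmaCore M) ∧ S ≤ 𝐂 ⁅E, E⁆ := by
  have := Fact.mk hq
  obtain ⟨H, hH, hc⟩ := der_compl_cent_beta' hG hM hE
  obtain ⟨S, hS⟩ := Sylow_exists q H
  exact ⟨S, subHall_Sylow hH hβ hS, (pHall_sub hS).trans (centsC.1 hc)⟩

/-- B & G, Lemma 13.6. -/
theorem cent_cent_Msigma_tau1_uniq (hG : Ctx G) {M E E₁ P X : Subgroup G}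
    (hM : Mx M) (hE : IsPiHallOf (sigma M)ᶜ E M) (h1 : IsPiHallOf (tau1 M) E₁ E)
    (hP : P ≤ E₁) (hP1 : P ≠ ⊥) {q : ℕ} (hq : q.Prime) (hX : X ∈ Elem q 1 (sigmaCore M ⊓ 𝐂 P)) :
    UniqMax (𝐂 X) M ∧ ∀ S : Subgroup G, IsSylowOf q S (sigmaCore M) → UniqMax S M := by
  have := Fact.mk hq
  have hpr := tau1_primact_Msigma hG hM hE h1
  rw [hpr.cent hP hP1] at hX
  have hMs := Msigma_normal M
  have hXs : X ≤ sigmaCore M := (pnElem_sub hX).trans inf_le_left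
  refine cent_der_sigma_uniq hG hM hq (pnElem_of_le hX (hXs.trans hMs.le)) ?_
  by_contra hcon
  push Not at hcon
  have hEM := pHall_sub hE
  have h1E := pHall_sub h1
  have hco := coprimegS h1E (coprime_sigma_compl hG hM hE)
  have hsol := sub_mmax_sol hG hM hMs.le
  have hn1 : E₁ ≤ 𝐍 (sigmaCore M) := (h1E.trans hEM).trans hMs.norm
  obtain ⟨S₀, hS₀, hcS₀⟩ := bg13_der_cent_Sylow hG hM hE hq hcon.1
  obtain ⟨S, hS, hnS⟩ := coprime_Hall_exists {q} (A := E₁) (H := sigmaCore M ⊓ 𝐂 ⁅E, E⁆)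
    (norms_subcent hn1 (h1E.trans (der_normal E).norm)) (coprimeSg inf_le_left hco)
    (solvableS inf_le_left hsol)
  have hS' := bg13_Sylow_of_Sylow_le hS₀ (le_inf (pHall_sub hS₀) hcS₀) inf_le_left hS
  obtain ⟨T, hT, hnT, hXT⟩ := coprime_Hall_subset hn1 hco hsol hXs (pgroup_iff.2 (pnElem_pgroup hX))
    (cents_norm (centsC.1 ((pnElem_sub hX).trans inf_le_right)))
  obtain ⟨c, hc, e⟩ := coprime_Hall_trans hn1 hco hsol hS' hnS hT hnT
  have hY1 : c •ᶜ X ≤ sigmaCore M ⊓ 𝐂 E₁ := conj_subG hc (pnElem_sub hX)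
  have hY' : c •ᶜ X ≤ 𝐂 ⁅E, E⁆ :=
    ((conj_smul_mono c hXT).trans (e ▸ pHall_sub hS)).trans inf_le_right
  obtain ⟨-, E₃, h3⟩ := ex_tau13_compl hG hM hE
  obtain ⟨E₂, hcE⟩ := ex_tau2_compl hG hM hE h1 h3
  obtain ⟨⟨h3E', -⟩, -, ⟨hcyc, -⟩, ⟨-, hsd, -⟩, -⟩ := sigma_compl_context hG hM hcE
  by_cases h2 : E₂ = ⊥
  · apply hcon.2
    rw [← conjSg c, normP.1 ((der_normal _).norm hc.1)]
    refine le_trans (le_inf (hY1.trans inf_le_left) ?_) (sigma_compl_embedding hG hM hE).1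
    rw [← hsd.sup, h2, bot_sup_eq, cent_sup]
    exact le_inf (hY'.trans (centS h3E')) (hY1.trans inf_le_right)
  obtain ⟨p, hp⟩ := bg13_exists_tau2 hcE h2
  have := Fact.mk (tau2_prime hp)
  obtain ⟨A, hA, hAM⟩ := ex_tau2Elem hG hM hE hp
  have hAE := (tau2_compl_context hG hM hE hp hA).1.1
  have hCA := (tau2_context hG hM hp hAM).2.2.1
  refine nt_pnElem hX Nat.one_pos (conj_smul_eq_bot_iff.1 (le_bot_iff.1
    (hCA ▸ le_inf (hY1.trans inf_le_left) ?_)))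
  rw [← coprime_cent_prod (h1E.trans hAE.norm) (p'nat_coprime
    (pi_pgroup (pnElem_pgroup hA) fun h => tau2'1 M h hp) (pHall_pgroup h1))
    (Or.inr (abelian_sol (pnElem_abelian hA))), cent_sup]
  refine le_inf (hY'.trans (centS (commgSS hAE.le h1E))) (centsC.1 fun a ha => ?_)
  by_cases ha1 : a = 1
  · exact ha1 ▸ Subgroup.one_mem _
  obtain ⟨P₀, hP₀, hP₀p⟩ := exists_prime_subgroup_of_ne_bot (subG1_contra hP hP1)
  have := Fact.mk hP₀p
  have h4 := cent_tau1Elem_Msigma hG hM hE (pHall_pgroup h1 _ hP₀p (cardSg hP₀)) (tau2_prime hp)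
    (p1ElemE.2 ⟨hP₀.trans h1E, rfl⟩) (p1Elem_zpowers (x := a) ⟨hAE.le ha.1, centS hP₀ ha.2⟩
      (abelem_order_p (pnElem_abelem hA) ha.1 ha1))
  rw [cent_zpowers] at h4
  exact le_cent1_iff.1 (((hY1.trans (inf_le_inf_left _ (centS hP₀))).trans h4).trans inf_le_right)

theorem bg13_tau2_eq_bot (hG : Ctx G) {M E E₁ E₂ E₃ : Subgroup G}
    (hM : Mx M) (hc : SigmaCompl M E E₁ E₂ E₃) (hnr : ¬ Semiregular (sigmaCore M) E₃) :
    E₂ = ⊥ := by
  by_contra h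
  obtain ⟨p, hp⟩ := bg13_exists_tau2 hc h
  obtain ⟨A, hA, -⟩ := ex_tau2Elem hG hM hc.hallE hp
  exact hnr (tau2_regular hG hM hc hp hA).1

/-- B & G, Lemma 13.7. -/
theorem tau13_primact_Msigma (hG : Ctx G) {M E E₁ E₃ : Subgroup G}
    (hM : Mx M) (hE : IsPiHallOf (sigma M)ᶜ E M) (h1 : IsPiHallOf (tau1 M) E₁ E)
    (h3 : IsPiHallOf (tau3 M) E₃ E) (hnr : ¬ Semiregular E₃ E₁) :
    Semiprime (sigmaCore M) (E₃ ⊔ E₁) := by
  obtain ⟨E₂, hc⟩ := ex_tau2_compl hG hM hE h1 h3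
  obtain ⟨⟨-, hn3⟩, -, ⟨-, hcyc3⟩, ⟨-, hsd, -⟩, hC3⟩ := sigma_compl_context hG hM hc
  have hEM := pHall_sub hE
  have h1E := pHall_sub h1
  have hpr1 := tau1_primact_Msigma hG hM hE h1
  have hpr3 := tau3_primact_Msigma hG hM hE h3
  obtain ⟨P, R, hP1, hP, hR3, hR, hRP⟩ : ∃ P R : Subgroup G, P ≤ E₁ ∧ (Nat.card P).Prime ∧
      R ≤ E₃ ∧ (Nat.card R).Prime ∧ R ≤ 𝐂 P := by
    by_contra hcon
    refine hnr fun x hx hx1 => by_contra fun h => hcon ?_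
    obtain ⟨P, h4, h5, h6⟩ := bg13_prime_le_zpowers hx1
    obtain ⟨R, h7, h8⟩ := exists_prime_subgroup_of_ne_bot h
    exact ⟨P, R, h4.trans (Subgroup.zpowers_le.2 hx), h5, h7.trans inf_le_left, h8,
      (h7.trans inf_le_right).trans h6⟩
  have := Fact.mk hP
  have := Fact.mk hR
  have hle := cent_tau1Elem_Msigma hG hM hE (pHall_pgroup h1 _ hP (cardSg hP1)) hR
    (p1ElemE.2 ⟨hP1.trans h1E, rfl⟩) (p1ElemE.2 ⟨le_inf (hR3.trans hn3.le) hRP, rfl⟩)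
  have e1 := hpr1.cent hP1 (prime_ne_bot hP)
  have e3 := hpr3.cent hR3 (prime_ne_bot hR)
  have heq : sigmaCore M ⊓ 𝐂 E₁ = sigmaCore M ⊓ 𝐂 E₃ := by
    rw [← e1, ← e3]
    by_contra hne
    have hlt := lt_of_le_of_ne hle hne
    have h2 := bg13_tau2_eq_bot hG hM hc fun h =>
      ne_bot_of_gt hlt (h.cent hR3 (prime_ne_bot hR))
    have hRp : IsPGroup (Nat.card R) R := isPGroup_of_card_prime rfl
    have hrd : Nat.card R ∈ dl G :=
      dg_of_inf_cent hG (Msigma_dg M) (ne_bot_of_gt hlt) _ hR dvd_rfl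
    obtain ⟨H, hH, hN⟩ := mmax_exists (mFT_norm_pgroup_proper hG hRp (prime_ne_bot hR))
    have hEH : E ≤ H := (norms_sub_cyclic hcyc3 hR3 hn3.norm).trans hN
    obtain ⟨-, h5, h6⟩ := cent_norm_tau13_mmax hG hM hE
      (Or.inr (pHall_pgroup h3 _ hR (cardSg hR3))) (prime_ne_bot hR)
      ((hR3.trans hn3.le).trans hEM) (pgroup_iff.2 hRp) hH hN
    have h7 : ∀ Q : Subgroup G, Q ≤ E₁ → Q ≠ ⊥ → ¬ Q ≤ 𝐂 (sigmaCore M ⊓ H) := by
      intro Q hQ hQ1 h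
      apply hlt.not_ge
      rw [e1, ← hpr1.cent hQ hQ1]
      exact le_inf inf_le_left
        ((inf_le_inf_left _ ((cent_sub R).trans hN)).trans (centsC.1 h))
    have hrσ := (h6 fun h => h7 P hP1 (prime_ne_bot hP)
      ((le_inf ((hP1.trans h1E).trans hEM) ((hP1.trans h1E).trans hEH)).trans
        (centsC.1 (commG1P.1 h)))).1
    have h8 : IsPiSubgroup (tau1 H) E₁ := by
      intro s hs hd
      by_contra h
      obtain ⟨Q, hQ, hQs⟩ := exists_prime_subgroup hs hd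
      exact h7 Q hQ (prime_ne_bot (hQs ▸ hs))
        (h5 Q (le_inf (hQ.trans h1E) ((hQ.trans h1E).trans hEH)) ((prime_pgroup hQs hs).2 h))
    obtain ⟨F, hF, h1F⟩ := ex_sigma_compl hG hH (h1E.trans hEH) (sub_pgroup (tau1_sub_sigma' H) h8)
    obtain ⟨F₁, F₂, F₃, hcF, h1F₁⟩ := ex_sigmaCompl_of_tau1 hG hH hF h1F h8
    have h9 : R ≤ 𝐂 E₁ := by
      refine le_trans ?_ (inf_le_right.trans (centS h1F₁) : sigmaCore H ⊓ 𝐂 F₁ ≤ 𝐂 E₁)
      rw [← (tau1_primact_Msigma hG hH hF hcF.hall1).cent (hP1.trans h1F₁) (prime_ne_bot hP)]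
      exact le_inf (sub_Msigma hG hH ((normG R).trans hN) (pi_pgroup hRp hrσ)) hRP
    refine prime_ne_bot hR (le_bot_iff.1 (hC3 ▸ le_inf hR3 ?_))
    rw [← hsd.sup, h2, bot_sup_eq, cent_sup]
    exact le_inf (hR3.trans (abelian_le_cent (cyclic_abelian hcyc3))) h9
  intro x hx hx1
  refine le_antisymm ?_ (inf_le_inf_left _ (cent_le_cent1 hx))
  obtain ⟨X, hXx, hX, hCX⟩ := bg13_prime_le_zpowers hx1
  have hX31 : X ≤ E₃ ⊔ E₁ := hXx.trans (Subgroup.zpowers_le.2 hx)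
  have hXE : X ≤ E := hX31.trans (sup_le hn3.le h1E)
  have h4 : sigmaCore M ⊓ 𝐂 X = sigmaCore M ⊓ 𝐂 E₃ := by
    rcases pgroupY (π := tau3 M ∪ tau1 M) (h1E.trans hn3.norm)
      (sub_pgroup Set.subset_union_left (pHall_pgroup h3))
      (sub_pgroup Set.subset_union_right (pHall_pgroup h1)) _ hX (cardSg hX31) with h | h
    · exact hpr3.cent ((sub_normal_Hall h3 hn3.norm hXE).2 ((prime_pgroup rfl hX).2 h))
        (prime_ne_bot hX)
    · obtain ⟨g, hg, hXg⟩ := Hall_subJ (sigma_compl_sol hG hM hE) h1 hXE ((prime_pgroup rfl hX).2 h)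
      have h5 := (hpr1.conj g).cent hXg (prime_ne_bot hX)
      rw [centJ, ← conjIg, heq, conjIg, ← centJ, normP.1 (hn3.norm hg),
        normP.1 ((Msigma_normal M).norm (hEM hg))] at h5
      exact h5
  refine (inf_le_inf_left _ hCX).trans ?_
  rw [h4, cent_sup]
  exact le_inf inf_le_left (le_inf inf_le_right (heq ▸ inf_le_right))

end Cfsg.Lib.FT.PG
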