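import Cfsg.Agent.PG.BG13.T8

/-!
B & G, Theorem 13.10, Corollary 13.11 and Lemmas 13.12, 13.13.
-/

set_option autoImplicit false
set_option linter.unusedSectionVars false

open Pointwise Cfsg Cfsg.Lib.Solv

namespace Cfsg.Lib.FT.PG

variable {G : Type*} [Group G] [Dl G] [Finite G]

/-- B & G, Theorem 13.10. -/
theorem tau13_regular (hG : Ctx G) {M E E₁ E₂ E₃ P : Subgroup G}
    (hM : Mx M) (hE : SigmaCompl M E E₁ E₂ E₃) {p : ℕ} (hp : p.Prime) (hP : P ∈ Elem p 1 E)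
    (hPC : ¬ P ≤ 𝐂 E₃) :
    Semiregular E₃ E₁ ∧ Semiregular (sigmaCore M) E₃ ∧ sigmaCore M ⊓ 𝐂 P ≠ ⊥ := by
  obtain ⟨⟨hE3', hE3⟩, -, ⟨hc1, hc3⟩, -, -⟩ := sigma_compl_context hG hM hE
  have hEM := pHall_sub hE.hallE
  have hPE := pnElem_sub hP
  have hPM := hPE.trans hEM
  have hP1 := X12.elem1_ne_bot hp hP
  have hsolE := sigma_compl_sol hG hM hE.hallE
  have hp1 : p ∈ tau1 M := by
    rcases (partition_pi_sigma_compl hG hM hE.hallE p).mp ⟨hp, X12.elem_dvd hP⟩ with h | h | h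
    · exact h
    · obtain ⟨A, hA, -⟩ := ex_tau2Elem hG hM hE.hallE h
      have h1 : P ∈ Elem p 1 A := (tau2_compl_context hG hM hE.hallE h hA).1.2 ▸ hP
      exact absurd ((pnElem_sub h1).trans
        (centsC.mp (le_sup_left.trans (tau23_cent_tau2Elem hG hM hE h hA)))) hPC
    · exact absurd (((sub_normal_Hall hE.hall3 hE3.norm hPE).mpr (X12.elem_pi hp hP h)).trans
        (abelian_le_cent (cyclic_abelian hc3))) hPC
  obtain ⟨q, Q, hq, hQ, hQ1, hC⟩ := X13.exists_regular_Sylow hc3 (hPE.trans hE3.norm)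
    (X12.elem_coprime hp hP (pHall_pgroup hE.hall3) (tau3'1 M hp1)) hPC
  have : Fact q.Prime := ⟨hq⟩
  have hQ3 := pHall_sub hQ
  have hq3 : q ∈ tau3 M :=
    mem_of_pgroup_of_ne_bot (Sylow_pgroup hQ) hQ1 (pgroupS hQ3 (pHall_pgroup hE.hall3))
  have hQM : IsSylowOf q Q M :=
    subHall_Sylow hE.hallE (tau3_sub_sigma' M hq3) (subHall_Sylow hE.hall3 hq3 hQ)
  have hEQ : E ≤ 𝐍 Q := hE3.norm.trans (X10.norm_le_norm_of_cyclic hc3 hQ3)
  have hPQ := hPE.trans hEQ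
  by_cases hqd : q ∈ dl G
  swap
  · have hqQ := pgroup_dvd_card (Sylow_pgroup hQ) hQ1
    have h3' : IsPiSubgroup (dl G)ᶜ E₃ := dg'_of_le_cent hG hq hqQ hqd
      ((abelian_le_cent (cyclic_abelian hc3)).trans (centS hQ3))
    have hco := coprime_sigma_compl hG hM hE.hallE
    have hCP : sigmaCore M ⊓ 𝐂 P ≠ ⊥ := cent_ne_bot_of_Frob hPQ
      (Semiregular.of_prime (X12.elem1_prime hp hP) hC) (sub_mmax_sol hG hM (Msigma_le M))
      (hQM.1.trans (Msigma_normal M).2) (hPM.trans (Msigma_normal M).2)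
      (coprimegS (hQ3.trans hE3.1) hco) (coprimegS hPE hco) (Msigma_neq1 hG hM)
      (inf_cent_eq_bot hG (Msigma_dg M) hq hqQ hqd)
    refine ⟨(semiregular_dg hG ?_ h3').symm, semiregular_dg hG (Msigma_dg M) h3', hCP⟩
    obtain ⟨e, he, hPe⟩ := Hall_subJ hsolE hE.hall1 hPE (X12.elem_pi hp hP hp1)
    have h1 : DG (e •ᶜ E₁) := dg_of_le_cent hG hP1 (dg_of_inf_cent hG (Msigma_dg M) hCP)
      ((abelian_le_cent (cyclic_abelian ((cyclicJ e).2 hc1))).trans (centS hPe))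
    exact (pgroupJ e).1 h1
  obtain ⟨L, hL, hNL⟩ := mmax_exists_norm hG hQ1 (dg_of_sylow hQ hqd)
  have hne : ¬ ConjIn ⊤ M L :=
    mmax_norm_notJ hG hM hL (Sylow_pgroup hQ) (pHall_sub hQM) hNL (Or.inr (Or.inr hq3))
  have hPL := hPQ.trans hNL
  have hQL := (normG Q).trans hNL
  have hQML : IsSylowOf q Q (M ⊓ L) := pHall_subl (le_inf (pHall_sub hQM) hQL) inf_le_left hQM
  have hPML : P ∈ Elem p 1 (M ⊓ L) := pnElem_of_le hP (le_inf hPM hPL)
  obtain ⟨-, -, -, hβ, -, hCP, hCPQ⟩ :=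
    X13.asym_facts hG hM hL (X12.notJ_ne hne) hp1 hPML hQML hPQ hC hNL
  have hασ := Malpha_sub_Msigma hG hM
  rw [cent_sup, ← inf_assoc] at hCPQ
  refine ⟨?_, ?_, subG1_contra (inf_le_inf_right _ hασ) hCP⟩
  · by_contra hnr
    obtain ⟨e, he, hPe⟩ := Hall_subJ hsolE hE.hall1 hPE (X12.elem_pi hp hP hp1)
    have h1 := (tau13_primact_Msigma hG hM hE.hallE hE.hall1 hE.hall3 hnr).conj e
    rw [normP.mp ((Msigma_normal M).norm (hEM he)), conjYg, normP.mp (hE3.norm he)] at h1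
    have h2 := (h1.cent (hPe.trans le_sup_right) hP1).trans
      (h1.cent (hQ3.trans le_sup_left) hQ1).symm
    refine hCP (le_bot_iff.mp (hCPQ ▸ le_inf le_rfl ?_))
    exact ((inf_le_inf_right _ hασ).trans h2.le).trans inf_le_right
  · have hprim := tau3_primact_Msigma hG hM hE.hallE hE.hall3
    refine hprim.regular ?_
    by_contra hC3
    rw [← hprim.cent hQ3 hQ1] at hC3
    have hQc : Q ≤ 𝐂 (sigmaCore M ⊓ L) := (cent_norm_tau13_mmax hG hM hE.hallE (Or.inr hq3) hQ1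
      (pHall_sub hQM) (pHall_pgroup hQM) hL hNL).1 Q (pHall_sub hQML) (pHall_pgroup hQM)
    have hD : sigmaCore M ⊓ L = sigmaCore M ⊓ 𝐂 Q :=
      le_antisymm (le_inf inf_le_left (centsC.mp hQc))
        (inf_le_inf_left _ ((cent_sub Q).trans hNL))
    obtain ⟨r, hr, hrd⟩ := exists_prime_dvd_card hC3
    have : Fact r.Prime := ⟨hr⟩
    have hrσ : r ∈ sigma M := Msigma_pgroup M r hr (hrd.trans (cardSg inf_le_left))
    obtain ⟨S, hS, hPS⟩ := coprime_Hall_exists {r}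
      (normsI (hPM.trans (Msigma_normal M).norm) (normsG hPL))
      (X12.elem_coprime hp hP (pgroupS inf_le_left (Msigma_pgroup M)) (tau1_sub_sigma' M hp1))
      (sub_mmax_sol hG hL inf_le_right)
    have hS1 : S ≠ ⊥ := Sylow_ne_bot hS (hD ▸ hrd)
    have hSσ : S ≤ sigmaCore M := (pHall_sub hS).trans inf_le_left
    have hSM : S ≤ M := hSσ.trans (Msigma_normal M).le
    have hSML : IsSylowOf r S (M ⊓ L) := by
      refine subHall_Sylow ?_ hrσ hS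
      have := Hall_setI_normal (Msigma_Hall hG hM) (Msigma_normal M).norm
        (inf_le_left : M ⊓ L ≤ M)
      rwa [← inf_assoc, inf_eq_left.mpr (Msigma_normal M).le] at this
    have key : 𝐍 S ≤ M ∧ S ⊓ 𝐂 P = ⊥ := by
      by_cases hrβ : r ∈ beta M
      · have hSβ := pi_pgroup (Sylow_pgroup hS) hrβ
        refine ⟨beta_norm_sub_mmax hG hM hSM hSβ hS1, le_bot_iff.mp (hCPQ ▸ le_inf ?_ ?_)⟩
        · exact inf_le_inf_right _ ((sub_normal_Hall (Malpha_Hall hG hM) (Malpha_normal M).norm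
            hSM).mpr (hβ ▸ hSβ))
        · exact inf_le_left.trans ((pHall_sub hS).trans (hD.le.trans inf_le_right))
      · obtain ⟨H, hH, hEH⟩ := der_compl_cent_beta' hG hM hE.hallE
        obtain ⟨T, hT⟩ := Sylow_exists r H
        have hT' : IsSylowOf r T (sigmaCore M) := subHall_Sylow hH hrβ hT
        have hTD : T ≤ sigmaCore M ⊓ L := hD ▸ le_inf (pHall_sub hT')
          ((pHall_sub hT).trans (centsC.mp ((hQ3.trans hE3').trans hEH)))
        have hS' : IsSylowOf r S (sigmaCore M) :=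
          pHall_of_card hT' hSσ (eq_card_Hall hS (pHall_subl hTD inf_le_left hT'))
        refine ⟨norm_sigma_Sylow hrσ (subHall_Sylow (Msigma_Hall hG hM) hrσ hS'), ?_⟩
        by_contra hCS
        obtain ⟨X, hX⟩ := X12.ex_elem1_of_pgroup hr (isPGroupS inf_le_left (Sylow_pgroup hS)) hCS
        obtain ⟨F, hF, hPF⟩ := Hall_superset hsolE hPE (X12.elem_pi hp hP hp1)
        exact X12.notJ_ne hne (((cent_cent_Msigma_tau1_uniq hG hM hE.hallE hF hPF hP1 hr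
          (pnElemS (inf_le_inf_right _ hSσ) hX)).2 S hS').eq hL
            ((pHall_sub hS).trans inf_le_right))
    exact tau1_mmaxI_asymmetry hG hM hL hne hp1
      (X13.tau1_of_regular hG hM hE.hallE hL hne hp hP hPL (pHall_sub hS) hS1 key.2)
      hPML hQML hSML hPQ hPS hC key.2 hNL key.1

/-- B & G, Corollary 13.11. -/
theorem tau13_nonregular (hG : Ctx G) {M E E₁ E₂ E₃ : Subgroup G}
    (hM : Mx M) (hE : SigmaCompl M E E₁ E₂ E₃) (hnr : ¬ Semiregular (sigmaCore M) E₃) :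
    E₁ ≠ ⊥ ∧ SDProd E₃ E₁ E ∧ Semiprime (sigmaCore M) E ∧
      ∀ (q : ℕ) (X : Subgroup G), q.Prime → X ∈ Elem q 1 E → X ⊲ E := by
  obtain ⟨⟨-, hE3⟩, h21, ⟨hc1, hc3⟩, ⟨-, hsd, -⟩, -⟩ := sigma_compl_context hG hM hE
  have h2 : E₂ = ⊥ := by
    by_contra h2
    obtain ⟨r, hr, hrd⟩ := exists_prime_dvd_card h2
    have hr2 := pHall_pgroup hE.hall2 r hr hrd
    obtain ⟨A, hA, -⟩ := ex_tau2Elem hG hM hE.hallE hr2
    exact hnr (tau2_regular hG hM hE hr2 hA).1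
  rw [h2, bot_sup_eq] at hsd
  have h1 := h21 h2
  have hc : ∀ (q : ℕ) (X : Subgroup G), q.Prime → X ∈ Elem q 1 E → X ≤ 𝐂 E₃ := by
    intro q X hq hX
    by_contra h
    exact hnr (tau13_regular hG hM hE hq hX h).2.1
  refine ⟨h1, hsd, ?_, fun q X hq hX => ⟨pnElem_sub hX, ?_⟩⟩
  · rw [← hsd.sup]
    refine tau13_primact_Msigma hG hM hE.hallE hE.hall1 hE.hall3 fun h => ?_
    obtain ⟨p, hp, hpd⟩ := exists_prime_dvd_card h1
    obtain ⟨P, hP⟩ := X12.ex_elem1 hp hpd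
    have := h.cent (pnElem_sub hP) (X12.elem1_ne_bot hp hP)
    rw [inf_eq_left.mpr (centsC.mp (hc p P hp (pnElemS hsd.le_right hP)))] at this
    exact hnr (this ▸ Semiregular.bot_right _)
  · by_cases hq3 : q ∈ tau3 M
    · exact hE3.norm.trans (X10.norm_le_norm_of_cyclic hc3
        ((sub_normal_Hall hE.hall3 hE3.norm (pnElem_sub hX)).mpr (X12.elem_pi hq hX hq3)))
    · obtain ⟨e, he, hXe⟩ := Hall_subJ (sigma_compl_sol hG hM hE.hallE)
        (hsd.compl_pHall.mp hE.hall3) (pnElem_sub hX) (X12.elem_pi hq hX hq3)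
      rw [← (hsd.conj_right he).sup]
      exact sup_le (cents_norm (centsC.mp (hc q X hq hX)))
        (sub_abelian_norm (cyclic_abelian ((cyclicJ e).mpr hc1)) hXe)

/-- B & G, Lemma 13.12. -/
theorem tau12_regular (hG : Ctx G) {M E P A : Subgroup G} (hM : Mx M)
    (hE : IsPiHallOf (sigma M)ᶜ E M) {p q : ℕ} (hp : p ∈ tau1 M) (hP : P ∈ Elem p 1 E)
    (hq : q ∈ tau2 M) (hA : A ∈ Elem q 2 E) (hC : A ⊓ 𝐂 P ≠ ⊥) : sigmaCore M ⊓ 𝐂 P = ⊥ := by
  by_contra hCP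
  have hpp := (mem_tau1_iff.mp hp).1
  have hqp := (mem_tau2_iff.mp hq).1
  have hP1 := X12.elem1_ne_bot hpp hP
  have hPE := pnElem_sub hP
  obtain ⟨⟨hAE, -⟩, ⟨-, -, hNA⟩, huniq, -⟩ := tau2_compl_context hG hM hE hq hA
  have hPA : ¬ P ≤ 𝐂 A := by
    intro h
    obtain ⟨E₁, E₂, E₃, hc, h1⟩ := ex_sigmaCompl_of_tau1 hG hM hE hPE (X12.elem_pi hpp hP hp)
    exact hCP ((tau2_regular hG hM hc hq hA).2.1.cent (le_inf h1 h) hP1)
  have hY : A ⊓ 𝐂 P ∈ Elem q 1 A := X12.elem1_of_lt hqp hA inf_le_left hC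
    fun h => hPA (centsC.mp (inf_eq_left.mp h))
  have hYE : A ⊓ 𝐂 P ∈ Elem q 1 E := pnElemS hAE.le hY
  have hU : UniqMax (𝐂 (A ⊓ 𝐂 P)) M := huniq _ hYE (subG1_contra
    (cent_tau1Elem_Msigma hG hM hE hp hqp hP
      (pnElem_of_le hY (inf_le_inf_right _ hAE.le))) hCP)
  obtain ⟨L, hL, hNL⟩ := X12.ex_mmax_norm hG hqp hA
  have hne : L ≠ M := fun h => hNA (h ▸ hNL)
  obtain ⟨h1, h2, -⟩ := primes_norm_tau2Elem hG hM hE hq hA hL hNL
  have hAL : A ≤ L := (normG A).trans hNL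
  have hAσ : A ≤ sigmaCore L := sub_Msigma hG hL hAL (X12.elem_pi hqp hA (h1 hq).1)
  have hPL : P ≤ L := (hPE.trans hAE.norm).trans hNL
  have hp' := h2 p hpp
    (X12.dvd_relIndex_of_not_le hpp (norms_cent hAE.norm) (pnElem_pgroup hP) hPE hPA)
  have hpσ : p ∉ sigma L := hp'.elim (fun h => tau1_sub_sigma' L h) fun h => tau2_sub_sigma' L h
  obtain ⟨F, hF, hPF⟩ := ex_sigma_compl hG hL hPL (X12.elem_pi hpp hP hpσ)
  rcases hp' with h | h
  · obtain ⟨F₁, hF₁, hPF₁⟩ := Hall_superset (sigma_compl_sol hG hL hF) hPF (X12.elem_pi hpp hP h)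
    exact hne (hU.unique (cent_cent_Msigma_tau1_uniq hG hL hF hF₁ hPF₁ hP1 hqp
      (pnElem_of_le hY (inf_le_inf_right _ hAσ))).1)
  · obtain ⟨B, hB, -⟩ := ex_tau2Elem hG hL hF h
    have h3 := (tau2_compl_context hG hL hF h hB).2.2.1 P (pnElem_of_le hP hPF)
      (subG1_contra (inf_le_inf_right _ hAσ) hC)
    have h4 := (tau2_context hG hM hq (pnElemS (pHall_sub hE) hA)).2.2.2.1 L hL hAL hne
    exact hCP (le_bot_iff.mp (h4 ▸ inf_le_inf_left _ h3.le))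

/-- B & G, Lemma 13.13. -/
theorem tau13_nonregular_sigma (hG : Ctx G) {M P H : Subgroup G}
    (hM : Mx M) {p : ℕ} (hP : P ∈ Elem p 1 M) (hC : sigmaCore M ⊓ 𝐂 P ≠ ⊥)
    (hp : p ∈ tau1 M ∨ p ∈ tau3 M) (hH : Mx H) (hN : 𝐍 P ≤ H) : p ∈ sigma H := by
  obtain ⟨hpp, hpσ, hr⟩ : p.Prime ∧ p ∉ sigma M ∧ pRank p M = 1 := by
    rcases hp with h | h
    · exact ⟨(mem_tau1_iff.mp h).1, (mem_tau1_iff.mp h).2.1, (mem_tau1_iff.mp h).2.2.1⟩
    · exact ⟨(mem_tau3_iff.mp h).1, (mem_tau3_iff.mp h).2.1, (mem_tau3_iff.mp h).2.2.1⟩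
  have hP1 := X12.elem1_ne_bot hpp hP
  have hpd : p ∈ dl G :=
    dg_of_inf_cent hG (Msigma_dg M) hC p hpp (X12.elem_dvd (X12.elem_self hP))
  refine (prime_class_mmax_norm hG hH hpp (pnElem_pgroup hP) hN).resolve_right fun hp2 => ?_
  have hne : ¬ ConjIn ⊤ M H :=
    mmax_norm_notJ hG hM hH (pnElem_pgroup hP) (pnElem_sub hP) hN (Or.inr hp)
  obtain ⟨q, hq, hqd⟩ := exists_prime_dvd_card hC
  obtain ⟨Q, hQ⟩ := X12.ex_elem1 hq hqd
  have hqσ : q ∈ sigma M := Msigma_pgroup M q hq (hqd.trans (cardSg inf_le_left))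
  have hQP : Q ≤ 𝐂 P := (pnElem_sub hQ).trans inf_le_right
  obtain ⟨E, hE, hPE⟩ := ex_sigma_compl hG hM (pnElem_sub hP) (X12.elem_pi hpp hP hpσ)
  have hU : UniqMax (𝐂 Q) M := by
    rcases hp with h | h
    · obtain ⟨E₁, h1, hPE₁⟩ :=
        Hall_superset (sigma_compl_sol hG hM hE) hPE (X12.elem_pi hpp hP h)
      exact (cent_cent_Msigma_tau1_uniq hG hM hE h1 hPE₁ hP1 hq hQ).1
    · obtain ⟨⟨E₁, h1⟩, E₃, h3⟩ := ex_tau13_compl hG hM hE
      obtain ⟨E₂, hc⟩ := ex_tau2_compl hG hM hE h1 h3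
      have hP3 : P ≤ E₃ := (sub_normal_Hall h3 (sigma_compl_context hG hM hc).1.2.norm hPE).mpr
        (X12.elem_pi hpp hP h)
      obtain ⟨hE1, -, hprim, -⟩ := tau13_nonregular hG hM hc fun h => hC (h.cent hP3 hP1)
      rw [hprim.cent hPE hP1, ← hprim.cent (pHall_sub h1) hE1] at hQ
      exact (cent_cent_Msigma_tau1_uniq hG hM hE h1 le_rfl hE1 hq hQ).1
  have hqH : q ∉ sigma H := Set.disjoint_left.mp (sigma_partition hG hM hH hne) hqσ
  obtain ⟨F, hF, hPQF⟩ := ex_sigma_compl hG hH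
    (sup_le ((normG P).trans hN) ((cents_norm hQP).trans hN))
    (pgroupY (cents_norm hQP) (X12.elem_pi hpp hP (tau2_sub_sigma' H hp2))
      (X12.elem_pi hq hQ hqH))
  have hQF : Q ∈ Elem q 1 F := pnElem_of_le hQ (le_sup_right.trans hPQF)
  obtain ⟨A, hA, -⟩ := ex_tau2Elem hG hH hF hp2
  obtain ⟨⟨hAF, hEA⟩, -⟩ := tau2_compl_context hG hH hF hp2 hA
  have hPA : P ∈ Elem p 1 A := hEA ▸ pnElem_of_le hP (le_sup_left.trans hPQF)
  have hQA : ¬ Q ≤ 𝐂 A := fun h => by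
    have := X12.le_pRank hpp (pnElem_of_le hA ((centsC.mp h).trans hU.le))
    omega
  have hq1 : q ∈ tau1 H := tau1_cent_tau2Elem_factor hG hH hF hp2 hA q hq
    (X12.dvd_relIndex_of_not_le hq (norms_cent hAF.norm) (pnElem_pgroup hQ) (pnElem_sub hQF) hQA)
  have hPAQ : P ≤ A ⊓ 𝐂 Q := le_inf (pnElem_sub hPA) (centsC.mp hQP)
  obtain ⟨-, -, h1, h2⟩ := tau1_act_tau2 hG hH hF hp2 hA hq1 hQF
    (tau12_regular hG hH hF hq1 hQF hp2 hA (subG1_contra hPAQ hP1))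
    (fun h => hQA (centsC.mp (commG1P.mp h)))
  exact h2 ((centS hPAQ).trans ((cent_sub P).trans hN))

end Cfsg.Lib.FT.PG
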