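import Cfsg.Agent.PG.BG13.A

/-!
B & G, Lemma 13.8 and Theorem 13.9.
-/

set_option autoImplicit false
set_option linter.unusedSectionVars false

open Pointwise Cfsg Cfsg.Lib.Solv

namespace Cfsg.Lib.FT.PG

variable {G : Type*} [Group G] [Dl G] [Finite G]

/-- what 12.18 gives in the configuration of 13.8 -/
theorem X13.asym_facts (hG : Ctx G) {M L P Q : Subgroup G} (hM : Mx M)
    (hL : Mx L) (hne : L ≠ M) {p q : ℕ} (hp : p ∈ tau1 M) (hP : P ∈ Elem p 1 (M ⊓ L))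
    (hQ : IsSylowOf q Q (M ⊓ L)) (hPQ : P ≤ 𝐍 Q) (hC : Q ⊓ 𝐂 P = ⊥) (hN : 𝐍 Q ≤ L)
    (hqd : q ∈ dl G := by dlt) :
    q.Prime ∧ IsSylowOf q Q M ∧ ⁅Q, P⁆ = Q ∧ alpha M = beta M ∧ q ∉ alpha M ∧
      alphaCore M ⊓ 𝐂 P ≠ ⊥ ∧ alphaCore M ⊓ 𝐂 (P ⊔ Q) = ⊥ := by
  have hpp := (mem_tau1_iff.mp hp).1
  have hQ1 : Q ≠ ⊥ := by
    rintro rfl
    rw [norm_bot] at hN
    exact hL.1.ne_top hG (top_le_iff.mp hN)
  have hq : q.Prime := by
    obtain ⟨r, hr, hd⟩ := exists_prime_dvd_card hQ1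
    obtain rfl : r = q := pHall_pgroup hQ r hr hd
    exact hr
  have : Fact q.Prime := ⟨hq⟩
  have hQM : Q ≤ M := (pHall_sub hQ).trans inf_le_left
  have hS : IsSylowOf q Q M :=
    (Sylow_subnorm hQM).mp (pHall_subl (le_inf hQM (normG Q)) (inf_le_inf_left _ hN) hQ)
  have hqp : q ≠ p := by
    rintro rfl
    have h1 : P ≤ Q :=
      norm_sub_Hall' hQ (pgroup_iff.mpr (pnElem_pgroup hP)) (pnElem_sub hP) hPQ
    exact X12.elem1_ne_bot hq hP (le_bot_iff.mp (hC ▸ le_inf h1 (X12.elem_cent hP)))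
  have hco : (Nat.card Q).Coprime (Nat.card P) := by
    have : Fact p.Prime := ⟨hpp⟩
    exact pgroup_coprime_of_ne (Sylow_pgroup hQ) (pnElem_pgroup hP) hqp
  have hQP := coprime_cent_prod hPQ hco (Or.inr (pgroup_sol (Sylow_pgroup hQ)))
  rw [hC, sup_bot_eq] at hQP
  obtain ⟨h1, -, h2, h3, h4⟩ := (cent_Malpha_reg_tau1 hG hM hp hq hqp
    (pnElemS inf_le_left hP) hQ1 hPQ hC (fun h => hne (h.eq hL hN))).2 hS
  exact ⟨hq, hS, hQP, h1, h2, h3, h4⟩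

theorem X13.asym_aux (hG : Ctx G) {M L P Q H X : Subgroup G}
    (hM : Mx M) (hL : Mx L) (hne : ¬ ConjIn ⊤ M L) {p q s : ℕ}
    (hp : p ∈ tau1 M) (hP : P ∈ Elem p 1 (M ⊓ L)) (hQ : IsSylowOf q Q (M ⊓ L))
    (hPQ : P ≤ 𝐍 Q) (hC : Q ⊓ 𝐂 P = ⊥) (hN : 𝐍 Q ≤ L) (hβL : alpha L = beta L)
    (hCL : alphaCore L ⊓ 𝐂 P ≠ ⊥) (hH : IsPiHallOf (beta M ∪ beta L) H (𝐂 P)) (hX : X ⊲ H)
    (hX1 : X ≠ ⊥) (hs : s ∈ beta M) (hXs : IsPGroup s X) (hqd : q ∈ dl G := by dlt) : False := by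
  obtain ⟨hq, hS, hQP, hβ, hqα, hCP, hCPQ⟩ :=
    X13.asym_facts hG hM hL (X12.notJ_ne hne) hp hP hQ hPQ hC hN
  obtain ⟨hpp, hpσ, -⟩ := mem_tau1_iff.mp hp
  have hP1 := X12.elem1_ne_bot hpp hP
  have hPM : P ≤ M := (pnElem_sub hP).trans inf_le_left
  have hPL : P ≤ L := (pnElem_sub hP).trans inf_le_right
  have hQM : Q ≤ M := pHall_sub hS
  have hQL : Q ≤ L := (pHall_sub hQ).trans inf_le_right
  have hαβ : alphaCore M = betaCore M := by rw [alphaCore_def, betaCore_def, hβ]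
  have hασ := alpha_sub_sigma hG hM
  have hCsol : Group.IsSolvable (𝐂 P) := mFT_sol hG (mFT_cent_proper hG hP1
    (dg_of_inf_cent hG (Malpha_dg hG hM.1) hCP))
  -- a conjugate of `H` lies in `M`
  have hHM : ∃ c ∈ 𝐂 P, c •ᶜ H ≤ M := by
    obtain ⟨c, hc, hcH⟩ := Hall_subJ hCsol hH (inf_le_right : alphaCore M ⊓ 𝐂 P ≤ _)
      (sub_pgroup (hβ ▸ Set.subset_union_left) (pgroupS inf_le_left (Malpha_pgroup M)))
    refine ⟨c, hc, ?_⟩
    have : Fact s.Prime := ⟨beta_prime hs⟩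
    obtain ⟨S, hSM⟩ := Sylow_exists s M
    obtain ⟨g, -, hg⟩ := Sylow_subJ (sigma_Sylow_G (beta_sub_sigma hG hM hs) hSM) le_top
      ((isPGroupJ c).mpr hXs)
    have h1 : 𝐍 (c •ᶜ X) ≤ g •ᶜ M :=
      beta_norm_sub_mmax hG ((mmaxJ g).mpr hM) (hg.trans ((conjSg g).mpr (pHall_sub hSM)))
        (pi_pgroup ((isPGroupJ c).mpr hXs) (by rwa [betaJ])) (by rwa [Ne, conj_smul_eq_bot_iff])
    have h2 : c •ᶜ H ≤ g •ᶜ M := ((normalJ c).mpr hX).norm.trans h1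
    obtain ⟨Y, hY, ht⟩ := exists_prime_subgroup_of_ne_bot hCP
    have hYα : Y ≤ alphaCore M := hY.trans inf_le_left
    have hYM : Y ≤ M := hYα.trans (Malpha_normal M).le
    have h3 : 𝐍 Y ≤ M := beta_norm_sub_mmax hG hM hYM (hβ ▸ pgroupS hYα (Malpha_pgroup M))
      (prime_ne_bot ht)
    have h4 : g⁻¹ ∈ M := sigma_cent_sub_trans hG hM (hασ (Malpha_pgroup M _ ht (cardSg hYα)))
      (isPGroup_of_card_prime rfl) hYM ((cent_sub Y).trans h3)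
      (conj_smul_le_iff_le_conj_inv_smul.mpr (by rw [inv_inv]; exact (hY.trans hcH).trans h2))
    rwa [conjGid (M.inv_mem_iff.mp h4)] at h2
  obtain ⟨c, hc, hcH⟩ := hHM
  obtain ⟨r, hr, hrd⟩ := exists_prime_dvd_card hCL
  have hrα : r ∈ alpha L := Malpha_pgroup L r hr (hrd.trans (cardSg inf_le_left))
  have hrσ : r ∉ sigma M := Set.disjoint_left.mp
    (sigma_disjoint hG hL hM fun h => hne h.symm).2.1 hrα
  have hrM : r ∣ Nat.card (M ⊓ 𝐂 P : Subgroup G) := by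
    have hH' := (pHallJ hc).mpr hH
    exact (mem_pi_of_Hall_dvd hH' hr (Or.inr (hβL ▸ hrα)) (hrd.trans (cardSg inf_le_right))).trans
      (cardSg (le_inf hcH (pHall_sub hH')))
  have hQ' : Q ≤ ⁅M, M⁆ := hQP.ge.trans (commgSS hQM hPM)
  have hMN := Mbeta_mul_norm_Sylow_der1 hG hM hq (pHall_subl hQ' (der_sub M) hS)
  rw [← hαβ] at hMN
  have hrN := X13.exists_cent_of_sup (Malpha_normal M) hMN (le_inf hPM hPQ)
    (X12.elem_coprime hpp hP (Malpha_pgroup M) fun h => hpσ (hασ h))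
    (sub_mmax_sol hG hM hPM) hr (fun h => hrσ (hασ (Malpha_pgroup M r hr h))) hrM
  obtain ⟨R, hR⟩ := X12.ex_elem1 hr hrN
  have hRM : R ≤ M := (pnElem_sub hR).trans (inf_le_left.trans inf_le_left)
  have hRP : R ≤ 𝐂 P := (pnElem_sub hR).trans inf_le_right
  have hNR : 𝐍 R ≤ L := beta_norm_sub_mmax hG hL
    ((pnElem_sub hR).trans ((inf_le_left.trans inf_le_right).trans hN))
    (X12.elem_pi hr hR (hβL ▸ hrα)) (X12.elem1_ne_bot hr hR)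
  obtain ⟨E, hE, hPRE⟩ := ex_sigma_compl hG hM (sup_le hPM hRM)
    (pgroupY (cents_norm hRP) (X12.elem_pi hpp hP hpσ) (X12.elem_pi hr hR hrσ))
  have h134 := cent_tau1Elem_Msigma hG hM hE hp hr (pnElem_of_le hP (le_sup_left.trans hPRE))
    (pnElem_of_le hR (le_inf (le_sup_right.trans hPRE) hRP))
  have hDL : alphaCore M ⊓ 𝐂 P ≤ alphaCore M ⊓ L := le_inf inf_le_left
    (((inf_le_inf_right _ (Malpha_sub_Msigma hG hM)).trans h134).trans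
      (inf_le_right.trans ((cent_sub R).trans hNR)))
  set A := alphaCore M ⊓ L with hA
  have hQA : Q ≤ 𝐍 A := normsI (hQM.trans (Malpha_normal M).norm) (normsG hQL)
  have hcoA : (Nat.card A).Coprime (Nat.card Q) :=
    pnat_coprime (pgroupS inf_le_left (Malpha_pgroup M))
      (pi_singleton_pgroup (pHall_pgroup hS) hqα)
  have hBA : ⁅A, Q⁆ ≤ A := commg_subl.mpr hQA
  have hB : ⁅A, Q⁆ ≤ alphaCore L := by
    rw [← coprime_commGid hQA hcoA]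
    exact X12.commg_le_of_nilMod (Malpha_quo_nil hG hL) (commgSS inf_le_right hQL)
      (hQP.ge.trans (commgSS hQL hPL)) (commg_normr A Q) (coprimeSg hBA hcoA).symm
  have hAQ : A ≤ 𝐂 Q := commG1P.mp (le_bot_iff.mp ((sigma_disjoint hG hM hL hne).1 ▸
    le_inf (hBA.trans inf_le_left) (hB.trans (Malpha_sub_Msigma hG hL))))
  refine hCP (le_bot_iff.mp (hCPQ ▸ le_inf inf_le_left ?_))
  rw [cent_sup]
  exact le_inf inf_le_right (hDL.trans hAQ)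

/-- B & G, Lemma 13.8. -/
theorem tau1_mmaxI_asymmetry (hG : Ctx G) {M Mstar P Q Qstar : Subgroup G}
    (hM : Mx M) (hMstar : Mx Mstar) (hne : ¬ ConjIn ⊤ M Mstar) {p q qstar : ℕ}
    (hp : p ∈ tau1 M) (hpstar : p ∈ tau1 Mstar) (hP : P ∈ Elem p 1 (M ⊓ Mstar))
    (hQ : IsSylowOf q Q (M ⊓ Mstar)) (hQstar : IsSylowOf qstar Qstar (M ⊓ Mstar))
    (hPQ : P ≤ 𝐍 Q) (hPQstar : P ≤ 𝐍 Qstar) (hCQ : Q ⊓ 𝐂 P = ⊥) (hCQstar : Qstar ⊓ 𝐂 P = ⊥)
    (hNQ : 𝐍 Q ≤ Mstar) (hNQstar : 𝐍 Qstar ≤ M) (hqd : q ∈ dl G := by dlt)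
    (hqd' : qstar ∈ dl G := by dlt) : False := by
  have hne' : ¬ ConjIn ⊤ Mstar M := fun h => hne h.symm
  have hP' : P ∈ Elem p 1 (Mstar ⊓ M) := inf_comm M Mstar ▸ hP
  have hQ' : IsSylowOf qstar Qstar (Mstar ⊓ M) := inf_comm M Mstar ▸ hQstar
  obtain ⟨-, -, -, hβ, -, hC, -⟩ :=
    X13.asym_facts hG hM hMstar (X12.notJ_ne hne) hp hP hQ hPQ hCQ hNQ
  obtain ⟨-, -, -, hβ', -, hC', -⟩ :=
    X13.asym_facts hG hMstar hM (X12.notJ_ne hne') hpstar hP' hQ' hPQstar hCQstar hNQstar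
  have hCsol : Group.IsSolvable (𝐂 P) :=
    mFT_sol hG (mFT_cent_proper hG (X12.elem1_ne_bot (mem_tau1_iff.mp hp).1 hP)
      (dg_of_inf_cent hG (Malpha_dg hG hM.1) hC))
  obtain ⟨H, hH, hDH⟩ := Hall_superset hCsol (inf_le_right : alphaCore M ⊓ 𝐂 P ≤ _)
    (sub_pgroup (hβ ▸ Set.subset_union_left : alpha M ⊆ beta M ∪ beta Mstar)
      (pgroupS inf_le_left (Malpha_pgroup M)))
  obtain ⟨s, hs, hX⟩ := X12.ex_pcore_ne_bot (solvableS (pHall_sub hH) hCsol) (subG1_contra hDH hC)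
  have : Fact s.Prime := ⟨hs⟩
  have hXs : IsPGroup s (piCoreOf {s} H) := pgroup_iff.mp (X10.core_pi _ _)
  rcases mem_of_pgroup_of_ne_bot hXs hX (pgroupS (X10.core_le _ _) (pHall_pgroup hH)) with h | h
  · exact X13.asym_aux hG hM hMstar hne hp hP hQ hPQ hCQ hNQ hβ' hC' hH (X10.core_normal _ _)
      hX h hXs
  · exact X13.asym_aux hG hMstar hM hne' hpstar hP' hQ' hPQstar hCQstar hNQstar hβ hC
      (Set.union_comm _ _ ▸ hH) (X10.core_normal _ _) hX h hXs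

/-- 13.1(a) in the form used for 13.9 and 13.10 -/
theorem X13.tau1_of_regular (hG : Ctx G) {M E L P S : Subgroup G}
    (hM : Mx M) (hE : IsPiHallOf (sigma M)ᶜ E M) (hL : Mx L) (hne : ¬ ConjIn ⊤ M L)
    {p : ℕ} (hp : p.Prime) (hP : P ∈ Elem p 1 E) (hPL : P ≤ L) (hS : S ≤ sigmaCore M ⊓ L)
    (hS1 : S ≠ ⊥) (hC : S ⊓ 𝐂 P = ⊥) : p ∈ tau1 L := by
  by_contra h
  have hPM : P ≤ M ⊓ L := le_inf ((pnElem_sub hP).trans (pHall_sub hE)) hPL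
  have key : ¬ P ≤ 𝐂 (sigmaCore M ⊓ L) := fun h1 =>
    hS1 (le_bot_iff.mp (hC ▸ le_inf le_rfl (hS.trans (centsC.mp h1))))
  refine key ((Msigma_setI_mmax_central hG hM hE hp hL (X12.elem_dvd hP)
    (X12.elem_dvd (pnElem_of_le hP hPL)) h (fun h1 => key ?_) hne).1 P hPM
    (X12.elem_pi hp hP rfl))
  exact hPM.trans (centsC.mp (commG1P.mp h1))

/-- B & G, Theorem 13.9. -/
theorem sigma_partition (hG : Ctx G) {M Mstar : Subgroup G} (hM : Mx M)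
    (hMstar : Mx Mstar) (hne : ¬ ConjIn ⊤ M Mstar) : Disjoint (sigma M) (sigma Mstar) := by
  rw [Set.disjoint_left]
  intro q hq hq'
  have hqp := sigma_prime hq
  have : Fact q.Prime := ⟨hqp⟩
  obtain ⟨E, hE, -⟩ := ex_sigma_compl hG hM bot_le pgroup1
  have hEM := pHall_sub hE
  obtain ⟨S, hS, hES⟩ := coprime_Hall_exists {q} (hEM.trans (Msigma_normal M).norm)
    (coprime_sigma_compl hG hM hE) (sub_mmax_sol hG hM (Msigma_normal M).le)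
  have hSM : IsSylowOf q S M := subHall_Sylow (Msigma_Hall hG hM) hq hS
  obtain ⟨T, hT⟩ := Sylow_exists q Mstar
  obtain ⟨g, -, hg⟩ := Sylow_trans (sigma_Sylow_G hq' hT) (sigma_Sylow_G hq hSM)
  have hL : Mx (g •ᶜ Mstar) := (mmaxJ g).mpr hMstar
  have hSL : IsSylowOf q S (g •ᶜ Mstar) := hg ▸ (pHallJ2 g).mpr hT
  have hqL : q ∈ sigma (g •ᶜ Mstar) := by rwa [sigmaJ]
  have hneL : ¬ ConjIn ⊤ M (g •ᶜ Mstar) := fun h =>
    hne (h.trans (ConjIn.of_conj (Subgroup.mem_top g) Mstar).symm)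
  generalize g •ᶜ Mstar = L at hL hSL hqL hneL
  have hNM := norm_sigma_Sylow hq hSM
  have hNL := norm_sigma_Sylow hqL hSL
  obtain ⟨⟨E₁, h1⟩, E₃, h3⟩ := ex_tau13_compl hG hM hE
  obtain ⟨E₂, hc⟩ := ex_tau2_compl hG hM hE h1 h3
  have h2 : E₂ = ⊥ := by
    by_contra h2
    obtain ⟨r, hr, hrd⟩ := exists_prime_dvd_card h2
    have hr2 := pHall_pgroup hc.hall2 r hr hrd
    obtain ⟨A, hA, -⟩ := ex_tau2Elem hG hM hE hr2
    exact Set.disjoint_left.mp ((tau2_compl_context hG hM hE hr2 hA).2.2.2 L hL hneL).2 hq hqL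
  obtain ⟨p, hp, hpd⟩ := exists_prime_dvd_card ((sigma_compl_context hG hM hc).2.1 h2)
  obtain ⟨P, hP⟩ := X12.ex_elem1 hp hpd
  have hPE : P ∈ Elem p 1 E := pnElemS (pHall_sub h1) hP
  have hPS : P ≤ 𝐍 S := (pnElem_sub hPE).trans hES
  have hC : S ⊓ 𝐂 P = ⊥ := by
    by_contra hC
    obtain ⟨X, hX⟩ := X12.ex_elem1_of_pgroup hqp (isPGroupS inf_le_left (Sylow_pgroup hS)) hC
    exact X12.notJ_ne hneL (((cent_cent_Msigma_tau1_uniq hG hM hE h1 (pnElem_sub hP)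
      (X12.elem1_ne_bot hp hP) hqp (pnElemS (inf_le_inf_right _ (pHall_sub hS)) hX)).2 S hS).eq
        hL (pHall_sub hSL))
  have hSML : IsSylowOf q S (M ⊓ L) :=
    pHall_subl (le_inf (pHall_sub hSM) (pHall_sub hSL)) inf_le_left hSM
  exact tau1_mmaxI_asymmetry hG hM hL hneL (pHall_pgroup h1 p hp hpd)
    (X13.tau1_of_regular hG hM hE hL hneL hp hPE (hPS.trans hNL)
      (le_inf (pHall_sub hS) (pHall_sub hSL)) (sigma_Sylow_neq1 hq hSM) hC)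
    (pnElem_of_le hP (le_inf (hPS.trans hNM) (hPS.trans hNL))) hSML hSML hPS hPS hC hC hNL hNM

end Cfsg.Lib.FT.PG
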